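import Groth.Agent.Lib.Helper5.HypSurf.Main

/-!
# Derivatives of the equation of a hypersurface annihilate high Tor (helper5)

`B → R = B/gB`, `D` a derivation of `B`.  For an `R`-module `X` of flat dimension `≤ d` over `B`, the
class of `D g` annihilates `Tor^R_q(X, N)` for `q ≥ d`: multiplication by `D g` on `X` factors through a
flat `R`-module.
-/

set_option autoImplicit false
set_option linter.unusedSectionVars false
set_option linter.unusedVariables false
set_option linter.style.haveILetI false
universe u
open CategoryTheory MonoidalCategory Limits TensorProduct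

namespace Groth.Agent.Lib.Helper5.HypSurf
open Groth.Agent.Helper1.TorL Groth.Agent.Lib.Helper5.TorPro

section Ann
variable {A : Type u} [CommRing A]
variable (B R : Type u) [CommRing B] [CommRing R] [Algebra A B] [Algebra B R]
variable {g : B} (hg : IsSMulRegular B g) (hsurj : Function.Surjective (algebraMap B R))
  (hker : RingHom.ker (algebraMap B R) = Ideal.span {g})
variable (D : Derivation A B B)
variable (X : Type u) [AddCommGroup X] [Module R X] [Module B X] [IsScalarTower B R X]

local notation "KB" => (LinearMap.ker (Finsupp.linearCombination B (id : X → X)))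

/-- the coordinatewise derivation of the free module -/
noncomputable def DG (x : X →₀ B) : X →₀ B := x.mapRange D (map_zero D)

theorem DG_add (x y : X →₀ B) : DG B D X (x + y) = DG B D X x + DG B D X y := by
  ext i
  simp [DG, Finsupp.mapRange_apply]

theorem DG_smul (b : B) (x : X →₀ B) : DG B D X (b • x) = D b • x + b • DG B D X x := by
  ext i
  simp only [DG, Finsupp.mapRange_apply, Finsupp.smul_apply, Finsupp.add_apply, smul_eq_mul,
    Derivation.leibniz]
  ring

/-- the Kodaira–Spencer map of the presentation -/
noncomputable def theta : KB →ₗ[B] X where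
  toFun y := Finsupp.linearCombination B (id : X → X) (DG B D X y.1)
  map_add' y z := by
    show Finsupp.linearCombination B (id : X → X) (DG B D X (y.1 + z.1)) = _
    rw [DG_add, map_add]
  map_smul' b y := by
    show Finsupp.linearCombination B (id : X → X) (DG B D X (b • y.1)) =
      b • Finsupp.linearCombination B (id : X → X) (DG B D X y.1)
    rw [DG_smul, map_add, map_smul, map_smul, LinearMap.mem_ker.1 y.2, smul_zero, zero_add]

include hker in
theorem theta_gam (x : X →₀ B) :
    theta B D X (gam B R hker X x) = D g • Finsupp.linearCombination B (id : X → X) x := by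
  show Finsupp.linearCombination B (id : X → X) (DG B D X (g • x)) = _
  rw [DG_smul, map_add, map_smul, map_smul, smul_eq_zero_of_ker B R hker X, add_zero]

/-- the induced map on the flat `R`-module `R ⊗ K` -/
noncomputable def thetaBar : R ⊗[B] KB →ₗ[R] X := LinearMap.liftBaseChange R (theta B D X)

theorem thetaBar_one_tmul (y : KB) : thetaBar B R D X ((1 : R) ⊗ₜ[B] y) = theta B D X y := by
  show (1 : R) • theta B D X y = _
  rw [one_smul]

include hg hsurj in
theorem ker_piBar_le : LinearMap.ker (piBar B R X) ≤ LinearMap.ker ((gam B R hker X).baseChange R) := by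
  intro t ht
  rw [LinearMap.mem_ker] at ht ⊢
  exact (gbar_eq_zero_iff B R hg hsurj hker X t).2 ht

/-- the inclusion of `X` into the flat module `R ⊗ K` -/
noncomputable def jmap : X →ₗ[R] R ⊗[B] KB :=
  ((LinearMap.ker (piBar B R X)).liftQ ((gam B R hker X).baseChange R)
    (ker_piBar_le B R hg hsurj hker X)).comp
    ((piBar B R X).quotKerEquivOfSurjective (piBar_surjective B R X)).symm.toLinearMap

theorem jmap_piBar (t : R ⊗[B] (X →₀ B)) :
    jmap B R hg hsurj hker X (piBar B R X t) = ((gam B R hker X).baseChange R) t := by
  have h1 : ((piBar B R X).quotKerEquivOfSurjective (piBar_surjective B R X)).symm (piBar B R X t) =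
      Submodule.Quotient.mk t := by
    rw [← LinearMap.quotKerEquivOfSurjective_apply_mk (piBar B R X) (piBar_surjective B R X) t,
      LinearEquiv.symm_apply_apply]
  rw [jmap, LinearMap.comp_apply, LinearEquiv.coe_coe, h1, Submodule.liftQ_apply]

theorem thetaBar_jmap (x : X) :
    thetaBar B R D X (jmap B R hg hsurj hker X x) = algebraMap B R (D g) • x := by
  obtain ⟨t, rfl⟩ := piBar_surjective B R X x
  obtain ⟨y, rfl⟩ := exists_one_tmul hsurj t
  rw [jmap_piBar, LinearMap.baseChange_tmul, thetaBar_one_tmul, theta_gam B R hker D X,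
    piBar_one_tmul, algebraMap_smul]

include hg hsurj hker in
/-- the base case -/
theorem smul_tor_base [Module.Flat B KB] (N : ModuleCat.{u} R) (k : ℕ)
    (t : T (k + 1) (ModuleCat.of R X) N) : algebraMap B R (D g) • t = 0 := by
  have hfac : algebraMap B R (D g) • 𝟙 (ModuleCat.of R X) =
      ModuleCat.ofHom (jmap B R hg hsurj hker X) ≫ ModuleCat.ofHom (thetaBar B R D X) := by
    apply ModuleCat.hom_ext
    apply LinearMap.ext
    intro x
    exact (thetaBar_jmap B R hg hsurj hker D X x).symm
  have h1 := tor_map_smul_id (ModuleCat.of R X) N (algebraMap B R (D g)) (k + 1)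
  rw [hfac, Functor.map_comp, NatTrans.comp_app] at h1
  haveI : Module.Flat R (ModuleCat.of R (R ⊗[B] KB)) := inferInstanceAs (Module.Flat R (R ⊗[B] KB))
  have hz : IsZero (T (k + 1) (ModuleCat.of R (R ⊗[B] KB)) N) := isZero_tor_succ_of_flat _ _ k
  have h2 : algebraMap B R (D g) • 𝟙 (T (k + 1) (ModuleCat.of R X) N) = 0 := by
    rw [← h1, hz.eq_of_tgt (((Tor (ModuleCat.{u} R) (k + 1)).map
      (ModuleCat.ofHom (jmap B R hg hsurj hker X))).app N) 0, zero_comp]
  have h3 : (algebraMap B R (D g) • 𝟙 (T (k + 1) (ModuleCat.of R X) N)).hom t =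
      (0 : T (k + 1) (ModuleCat.of R X) N ⟶ T (k + 1) (ModuleCat.of R X) N).hom t :=
    congrArg (fun f => f.hom t) h2
  simp only [ModuleCat.hom_smul, LinearMap.smul_apply, ModuleCat.hom_id, LinearMap.id_apply,
    ModuleCat.hom_zero, LinearMap.zero_apply] at h3
  exact h3

include hg hsurj hker in
/-- **derivatives of the equation annihilate high Tor** -/
theorem smul_tor (N : ModuleCat.{u} R) : ∀ (d : ℕ) (X : Type u) [AddCommGroup X] [Module R X]
    [Module B X] [IsScalarTower B R X], fdLE d (ModuleCat.of B X) → ∀ q : ℕ, d ≤ q →
    ∀ t : T q (ModuleCat.of R X) N, algebraMap B R (D g) • t = 0 := by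
  intro d
  induction d with
  | zero =>
    intro X _ _ _ _ hfd q hq t
    haveI : Module.Flat B X := flat_of_fdLE_zero hfd
    haveI := subsingleton_of_flat B R hg hker X
    have hz : IsZero (T q (ModuleCat.of R X) N) := by
      cases q with
      | zero =>
        refine IsZero.of_iso ?_ (tor0Iso (ModuleCat.of R X) N)
        haveI : Subsingleton (X ⊗[R] N) := inferInstance
        exact ModuleCat.isZero_of_subsingleton (ModuleCat.of R (X ⊗[R] N))
      | succ n =>
        haveI : Module.Flat R (ModuleCat.of R X) := inferInstanceAs (Module.Flat R X)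
        exact isZero_tor_succ_of_flat _ _ n
    haveI := ModuleCat.subsingleton_of_isZero hz
    exact Subsingleton.elim _ _
  | succ d ih =>
    rcases d with _ | d'
    · intro X _ _ _ _ hfd q hq t
      obtain ⟨k, rfl⟩ : ∃ k, q = k + 1 := ⟨q - 1, by omega⟩
      haveI : Module.Flat B (LinearMap.ker (Finsupp.linearCombination B (id : X → X))) :=
        flat_of_fdLE_zero (fdLE_Om hfd)
      exact smul_tor_base B R hg hsurj hker D X N k t
    · intro X _ _ _ _ hfd q hq t
      obtain ⟨k, rfl⟩ : ∃ k, q = k + 1 + 1 := ⟨q - 2, by omega⟩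
      let SB : ShortComplex (ModuleCat.{u} B) := ModuleCat.shortComplexOfCompEqZero
        (M := ↥(LinearMap.ker (piBar B R X))) (N := R ⊗[B] (X →₀ B)) (L := X)
        (((LinearMap.ker (piBar B R X)).subtype).restrictScalars B)
        ((piBar B R X).restrictScalars B)
        (by
          apply LinearMap.ext
          intro z
          exact z.2)
      have hSB : SB.ShortExact := by
        refine ModuleCat.shortComplex_shortExact _ ?_ ?_ ?_
        · exact LinearMap.exact_subtype_ker_map (piBar B R X)
        · exact (LinearMap.ker (piBar B R X)).injective_subtype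
        · exact piBar_surjective B R X
      have hG := fdLE_gbar B R hg hsurj hker X
      have hZ : fdLE (d' + 1) (ModuleCat.of B ↥(LinearMap.ker (piBar B R X))) := by
        intro Y m hm
        exact isZero_tor_X₁ SB hSB Y m (hfd Y (m + 1) (by omega)) (hG Y m (by omega))
      have hSa := Sa_shortExact B R X
      haveI : Module.Flat R (Sa B R X).X₂ := inferInstanceAs (Module.Flat R (R ⊗[B] (X →₀ B)))
      have e1 := torShiftIso (Sa B R X) hSa N (k + 1) (isZero_tor_succ_of_flat _ _ _)
        (isZero_tor_succ_of_flat _ _ _)
      have h := ih ↥(LinearMap.ker (piBar B R X)) hZ (k + 1) (by omega) (e1.hom t)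
      apply e1.toLinearEquiv.injective
      rw [map_smul, map_zero]
      exact h

end Ann

end Groth.Agent.Lib.Helper5.HypSurf
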