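import Mathlib
import Groth.Agent.Lib.Helper1.TorL
import Groth.Agent.Lib.Helper5.TorPro.ChangeRings

/-!
# Two-periodicity of Tor over a hypersurface (helper5)

`B → R` surjective with kernel generated by a nonzerodivisor `g`.  For an `R`-module `X` of flat
dimension `≤ d` over `B`, `Tor^R_q(X, N) ≅ Tor^R_{q-2}(X, N)` for `q ≥ d + 2`.
-/

set_option autoImplicit false
set_option linter.unusedSectionVars false
set_option linter.unusedVariables false
set_option linter.style.haveILetI false
universe u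
open CategoryTheory MonoidalCategory Limits TensorProduct

namespace Groth.Agent.Lib.Helper5.HypSurf
open Groth.Agent.Helper1.TorL Groth.Agent.Lib.Helper5.TorPro

section Tensor
variable {B R : Type u} [CommRing B] [CommRing R] [Algebra B R]

/-- every element of `R ⊗[B] X` is `1 ⊗ x` when `B → R` is surjective -/
theorem exists_one_tmul {X : Type u} [AddCommMonoid X] [Module B X]
    (hsurj : Function.Surjective (algebraMap B R)) (t : R ⊗[B] X) :
    ∃ x : X, t = (1 : R) ⊗ₜ[B] x := by
  induction t using TensorProduct.induction_on with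
  | zero => exact ⟨0, by simp⟩
  | tmul r x =>
    obtain ⟨b, rfl⟩ := hsurj r
    refine ⟨b • x, ?_⟩
    rw [Algebra.algebraMap_eq_smul_one, TensorProduct.smul_tmul]
  | add s t hs ht =>
    obtain ⟨x, rfl⟩ := hs
    obtain ⟨y, rfl⟩ := ht
    exact ⟨x + y, (TensorProduct.tmul_add (1 : R) x y).symm⟩

/-- `1 ⊗ x = 0` in `R ⊗[B] X` iff `x ∈ g X` -/
theorem one_tmul_eq_zero_iff {X : Type u} [AddCommGroup X] [Module B X] (hsurj : Function.Surjective (algebraMap B R)) {g : B}
    (hker : RingHom.ker (algebraMap B R) = Ideal.span {g}) (x : X) :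
    (1 : R) ⊗ₜ[B] x = 0 ↔ ∃ y : X, x = g • y := by
  have hs : Function.Surjective (Algebra.ofId B R) := hsurj
  let e : (B ⧸ RingHom.ker (Algebra.ofId B R)) ≃ₐ[B] R := Ideal.quotientKerAlgEquivOfSurjective hs
  have hI : RingHom.ker (Algebra.ofId B R) = Ideal.span {g} := by
    rw [← hker]
    ext b
    rfl
  let φ : R ⊗[B] X ≃ₗ[B] X ⧸ (RingHom.ker (Algebra.ofId B R) • (⊤ : Submodule B X)) :=
    (TensorProduct.congr e.symm.toLinearEquiv (LinearEquiv.refl B X)) ≪≫ₗ
      TensorProduct.quotTensorEquivQuotSMul X _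
  have hφ : φ ((1 : R) ⊗ₜ[B] x) = Submodule.Quotient.mk x := by
    show TensorProduct.quotTensorEquivQuotSMul X _ (e.symm 1 ⊗ₜ[B] x) = _
    rw [map_one]
    exact TensorProduct.quotTensorEquivQuotSMul_mk_one_tmul _ x
  rw [← φ.map_eq_zero_iff, hφ, Submodule.Quotient.mk_eq_zero, hI,
    Submodule.ideal_span_singleton_smul, Submodule.mem_smul_pointwise_iff_exists]
  constructor
  · rintro ⟨y, -, rfl⟩
    exact ⟨y, rfl⟩
  · rintro ⟨y, rfl⟩
    exact ⟨y, trivial, rfl⟩

end Tensor

section Base
variable (B R : Type u) [CommRing B] [CommRing R] [Algebra B R]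
variable {g : B} (hg : IsSMulRegular B g) (hsurj : Function.Surjective (algebraMap B R))
  (hker : RingHom.ker (algebraMap B R) = Ideal.span {g})
variable (X : Type u) [AddCommGroup X] [Module R X] [Module B X] [IsScalarTower B R X]

local notation "KB" => (LinearMap.ker (Finsupp.linearCombination B (id : X → X)))

/-- the canonical `R`-flat cover `R ⊗[B] B^(X) → X` -/
noncomputable def piBar : R ⊗[B] (X →₀ B) →ₗ[R] X :=
  LinearMap.liftBaseChange R (Finsupp.linearCombination B (id : X → X))

theorem piBar_one_tmul (x : X →₀ B) :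
    piBar B R X ((1 : R) ⊗ₜ[B] x) = Finsupp.linearCombination B (id : X → X) x := by
  show (1 : R) • Finsupp.linearCombination B (id : X → X) x = _
  rw [one_smul]

theorem piBar_surjective : Function.Surjective (piBar B R X) := fun x =>
  ⟨(1 : R) ⊗ₜ[B] Finsupp.single x 1, by
    rw [piBar_one_tmul, Finsupp.linearCombination_single, one_smul]; rfl⟩

include hker in
theorem smul_eq_zero_of_ker (x : X) : g • x = 0 := by
  have h0 : algebraMap B R g = 0 := by
    have : g ∈ RingHom.ker (algebraMap B R) := by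
      rw [hker]; exact Ideal.mem_span_singleton_self g
    exact this
  rw [← algebraMap_smul R g x, h0, zero_smul]

include hg in
theorem finsupp_smul_cancel {x y : X →₀ B} (h : g • x = g • y) : x = y := by
  ext i
  have := DFunLike.congr_fun h i
  simp only [Finsupp.smul_apply] at this
  exact hg this

/-- multiplication by `g` lands in the kernel of the cover -/
noncomputable def gam : (X →₀ B) →ₗ[B] KB :=
  LinearMap.codRestrict _ (g • (LinearMap.id : (X →₀ B) →ₗ[B] (X →₀ B))) (fun x => by
    rw [LinearMap.mem_ker, LinearMap.smul_apply, LinearMap.id_apply, map_smul]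
    exact smul_eq_zero_of_ker B R hker X _)

theorem gam_coe (x : X →₀ B) : ((gam B R hker X x : KB) : X →₀ B) = g • x := rfl

include hsurj in
theorem piBar_iota (s : R ⊗[B] KB) : piBar B R X ((LinearMap.baseChange R (Submodule.subtype KB)) s) = 0 := by
  obtain ⟨k, rfl⟩ := exists_one_tmul hsurj s
  rw [LinearMap.baseChange_tmul, piBar_one_tmul]
  exact k.2

include hsurj in
theorem exists_iota_eq (t : R ⊗[B] (X →₀ B)) (ht : piBar B R X t = 0) :
    ∃ s : R ⊗[B] KB, (LinearMap.baseChange R (Submodule.subtype KB)) s = t := by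
  obtain ⟨x, rfl⟩ := exists_one_tmul hsurj t
  rw [piBar_one_tmul] at ht
  exact ⟨(1 : R) ⊗ₜ[B] (⟨x, ht⟩ : KB), by rw [LinearMap.baseChange_tmul]; rfl⟩

include hg hsurj in
theorem gbar_eq_zero_iff (t : R ⊗[B] (X →₀ B)) :
    ((gam B R hker X).baseChange R) t = 0 ↔ piBar B R X t = 0 := by
  obtain ⟨x, rfl⟩ := exists_one_tmul hsurj t
  rw [LinearMap.baseChange_tmul, piBar_one_tmul, one_tmul_eq_zero_iff (X := ↥KB) hsurj hker]
  constructor
  · rintro ⟨y, hy⟩
    have h1 : g • x = g • (y : X →₀ B) := congrArg Subtype.val hy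
    have h2 := finsupp_smul_cancel B hg X h1
    rw [h2]
    exact y.2
  · intro hx
    exact ⟨⟨x, hx⟩, Subtype.ext rfl⟩

include hsurj in
theorem iota_eq_zero_iff (s : R ⊗[B] KB) :
    (LinearMap.baseChange R (Submodule.subtype KB)) s = 0 ↔ ∃ t, ((gam B R hker X).baseChange R) t = s := by
  obtain ⟨k, rfl⟩ := exists_one_tmul hsurj s
  rw [LinearMap.baseChange_tmul, one_tmul_eq_zero_iff hsurj hker]
  constructor
  · rintro ⟨x, hx⟩
    refine ⟨(1 : R) ⊗ₜ[B] x, ?_⟩
    rw [LinearMap.baseChange_tmul]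
    congr 1
    exact Subtype.ext hx.symm
  · rintro ⟨t, ht⟩
    obtain ⟨x, rfl⟩ := exists_one_tmul hsurj t
    rw [LinearMap.baseChange_tmul] at ht
    have h1 := congrArg (LinearMap.baseChange R (Submodule.subtype KB)) ht
    rw [LinearMap.baseChange_tmul, LinearMap.baseChange_tmul] at h1
    have h2 : (1 : R) ⊗ₜ[B] (Submodule.subtype KB (gam B R hker X x)) = 0 :=
      (one_tmul_eq_zero_iff hsurj hker _).2 ⟨x, rfl⟩
    exact (one_tmul_eq_zero_iff hsurj hker _).1 (h1.symm.trans h2)

/-- first short exact sequence `0 → Z → R ⊗ B^(X) → X → 0` -/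
noncomputable abbrev Sa : ShortComplex (ModuleCat.{u} R) := (piBar B R X).shortComplexKer

theorem Sa_shortExact : (Sa B R X).ShortExact :=
  LinearMap.shortExact_shortComplexKer (piBar_surjective B R X)

/-- the map `R ⊗ K → Z` -/
noncomputable def iotaP : R ⊗[B] KB →ₗ[R] LinearMap.ker (piBar B R X) :=
  LinearMap.codRestrict _ (LinearMap.baseChange R (Submodule.subtype KB)) (fun s => piBar_iota B R hsurj X s)

include hsurj in
theorem iotaP_surjective : Function.Surjective (iotaP B R hsurj X) := by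
  intro z
  obtain ⟨s, hs⟩ := exists_iota_eq B R hsurj X z.1 z.2
  exact ⟨s, Subtype.ext hs⟩

/-- second short exact sequence `0 → ker → R ⊗ K → Z → 0` -/
noncomputable abbrev Sb : ShortComplex (ModuleCat.{u} R) :=
  LinearMap.shortComplexKer (M := R ⊗[B] ↥KB) (N := ↥(LinearMap.ker (piBar B R X)))
    (iotaP B R hsurj X)

theorem Sb_shortExact : (Sb B R hsurj X).ShortExact :=
  LinearMap.shortExact_shortComplexKer (M := R ⊗[B] ↥KB) (N := ↥(LinearMap.ker (piBar B R X)))
    (iotaP_surjective B R hsurj X)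

include hg hker in
/-- the kernel of the second sequence is `X` again -/
theorem nonempty_equiv_ker : Nonempty (X ≃ₗ[R] LinearMap.ker (iotaP B R hsurj X)) := by
  have h : LinearMap.ker (piBar B R X) = LinearMap.ker ((gam B R hker X).baseChange R) := by
    ext t
    rw [LinearMap.mem_ker, LinearMap.mem_ker]
    exact (gbar_eq_zero_iff B R hg hsurj hker X t).symm
  have h' : LinearMap.range ((gam B R hker X).baseChange R) =
      LinearMap.ker (iotaP B R hsurj X) := by
    rw [iotaP, LinearMap.ker_codRestrict]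
    ext s
    rw [LinearMap.mem_range, LinearMap.mem_ker]
    exact (iota_eq_zero_iff B R hsurj hker X s).symm
  exact ⟨((piBar B R X).quotKerEquivOfSurjective (piBar_surjective B R X)).symm ≪≫ₗ
    Submodule.quotEquivOfEq _ _ h ≪≫ₗ
    ((gam B R hker X).baseChange R).quotKerEquivRange ≪≫ₗ LinearEquiv.ofEq _ _ h'⟩

include hg hsurj hker in
/-- the base case: flat dimension `≤ 1` over `B` -/
theorem base [Module.Flat B KB] (N : ModuleCat.{u} R) (k : ℕ) :
    Nonempty (T (k + 1 + 1 + 1) (ModuleCat.of R X) N ≅ T (k + 1) (ModuleCat.of R X) N) := by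
  have hSa := Sa_shortExact B R X
  have hSb := Sb_shortExact B R hsurj X
  haveI : Module.Flat R (Sa B R X).X₂ := inferInstanceAs (Module.Flat R (R ⊗[B] (X →₀ B)))
  haveI : Module.Flat R (Sb B R hsurj X).X₂ := inferInstanceAs (Module.Flat R (R ⊗[B] KB))
  have e1 := torShiftIso (Sa B R X) hSa N (k + 1 + 1) (isZero_tor_succ_of_flat _ _ _)
    (isZero_tor_succ_of_flat _ _ _)
  have e2 := torShiftIso (Sb B R hsurj X) hSb N (k + 1) (isZero_tor_succ_of_flat _ _ _)
    (isZero_tor_succ_of_flat _ _ _)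
  obtain ⟨e⟩ := nonempty_equiv_ker B R hg hsurj hker X
  have e3 := torCongrLeft (LinearEquiv.toModuleIso
    (X₁ := ↥(LinearMap.ker (iotaP B R hsurj X))) (X₂ := X) (g₁ := inferInstance) (g₂ := inferInstance)
    e.symm) N (k + 1)
  exact ⟨e1 ≪≫ e2 ≪≫ e3⟩

end Base

end Groth.Agent.Lib.Helper5.HypSurf
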