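import Mathlib
import Groth.Agent.Lib.Helper5.SmTor.Ring
import Groth.Agent.Lib.Helper5.TorPro.ChangeRings
import Groth.Agent.Lib.Helper1.TorBC2
import Groth.Agent.Lib.Helper1.TorBC3

/-!
# Flat dimension over a smooth algebra (helper5)

`A → B` smooth of relative dimension `n`, `X` a `B`-module of flat dimension `≤ m` over `A`.  Then `X`
has flat dimension `≤ m + n` over `B`.
-/

set_option autoImplicit false
set_option linter.unusedSectionVars false
set_option linter.unusedVariables false
set_option linter.style.haveILetI false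
universe u
open CategoryTheory Limits Pretriangulated DerivedCategory TensorProduct
attribute [local instance] HasDerivedCategory.standard

namespace Groth.Agent.Lib.Helper5.HypSurf
open Groth.Agent.Helper1.TorL Groth.Agent.Lib.Helper5.TorPro Groth.Agent.Helper5.TorAmp
open Groth.Agent.Lib.Helper5.SmTor Groth.Agent.Helper5.PolyTor Groth.Agent.Helper1

theorem hasTorDimLE_of_fdLE {A : Type u} [CommRing A] (X : Type u) [AddCommGroup X] [Module A X]
    (d : ℕ) (h : fdLE d (ModuleCat.of A X)) : DRing.HasTorDimLE A d X := by
  intro N _ _ p hp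
  exact ModuleCat.subsingleton_of_isZero (h (ModuleCat.of A N) p hp)

theorem fdLE_of_hasTorDimLE {A : Type u} [CommRing A] (X : Type u) [AddCommGroup X] [Module A X]
    (d : ℕ) (h : DRing.HasTorDimLE A d X) : fdLE d (ModuleCat.of A X) := by
  intro Y p hp
  haveI : Subsingleton (T p (ModuleCat.of A X) Y) := h Y p hp
  exact ModuleCat.isZero_of_subsingleton _

/-- a module all of whose localizations at a generating set vanish is zero -/
theorem subsingleton_of_away {B : Type u} [CommRing B] (N : Type u) [AddCommGroup N] [Module B N]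
    (s : Set B) (hs : Ideal.span s = ⊤)
    (h : ∀ f ∈ s, Subsingleton (Localization.Away f ⊗[B] N)) : Subsingleton N := by
  suffices hx : ∀ x : N, x = 0 from ⟨fun x y => (hx x).trans (hx y).symm⟩
  intro x
  let J : Ideal B := LinearMap.ker (LinearMap.toSpanSingleton B N x)
  have hJ : ∀ b : B, b ∈ J ↔ b • x = 0 := fun b => by
    show LinearMap.toSpanSingleton B N x b = 0 ↔ _
    rw [LinearMap.toSpanSingleton_apply]
  have hsub : s ⊆ (J.radical : Set B) := by
    intro f hf
    haveI := h f hf
    have h0 : (TensorProduct.mk B (Localization.Away f) N 1) x = 0 := Subsingleton.elim _ _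
    obtain ⟨c, hc⟩ := (IsLocalizedModule.eq_zero_iff (Submonoid.powers f)
      (TensorProduct.mk B (Localization.Away f) N 1)).1 h0
    obtain ⟨k, hk⟩ := c.2
    refine ⟨k, ?_⟩
    rw [hJ]
    have hk' : f ^ k = (c : B) := hk
    rw [hk']
    exact hc
  have h1 : J.radical = ⊤ := by
    rw [eq_top_iff, ← hs]
    exact Ideal.span_le.2 hsub
  have h2 : J = ⊤ := Ideal.radical_eq_top.1 h1
  have h3 : (1 : B) ∈ J := by rw [h2]; trivial
  have h4 := (hJ 1).1 h3
  rwa [one_smul] at h4

/-- flat dimension is local for the Zariski topology -/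
theorem fdLE_of_away {B : Type u} [CommRing B] (X : Type u) [AddCommGroup X] [Module B X] (d : ℕ)
    (s : Set B) (hs : Ideal.span s = ⊤)
    (h : ∀ f ∈ s, fdLE d (ModuleCat.of (Localization.Away f) (Localization.Away f ⊗[B] X))) :
    fdLE d (ModuleCat.of B X) := by
  intro Y p hp
  haveI : Subsingleton (T p (ModuleCat.of B X) Y) := by
    apply subsingleton_of_away _ s hs
    intro f hf
    obtain ⟨e⟩ := TorBC3.full B (Localization.Away f) Y p X
    have hz := h f hf (ModuleCat.of _ (Localization.Away f ⊗[B] Y)) p hp
    haveI := ModuleCat.subsingleton_of_isZero hz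
    exact e.toEquiv.subsingleton
  exact ModuleCat.isZero_of_subsingleton _

/-- localizing a `B`-module does not increase its flat dimension over `A` -/
theorem fdLE_away_base (A B : Type u) [CommRing A] [CommRing B] [Algebra A B] [Module.Flat A B]
    (X : Type u) [AddCommGroup X] [Module B X] [Module A X] [IsScalarTower A B X] (m : ℕ)
    (hX : fdLE m (ModuleCat.of A X)) (f : B) :
    fdLE m (ModuleCat.of A (Localization.Away f ⊗[B] X)) := by
  intro Q p hp
  haveI : Module.Flat A (Localization.Away f) := Module.Flat.trans A B (Localization.Away f)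
  obtain ⟨φ4, hφ4⟩ := TorBC2.full A B Q p X
  haveI h4 : Subsingleton (T p (ModuleCat.of B X) (ModuleCat.of B (B ⊗[A] Q))) := by
    haveI : Subsingleton (T p (ModuleCat.of A X) (ModuleCat.of A Q)) :=
      ModuleCat.subsingleton_of_isZero (hX Q p hp)
    exact hφ4.surjective.subsingleton
  obtain ⟨e3⟩ := TorBC3.full B (Localization.Away f) (B ⊗[A] Q) p X
  haveI h3 : Subsingleton (T p (ModuleCat.of (Localization.Away f) (Localization.Away f ⊗[B] X))
      (ModuleCat.of (Localization.Away f) (Localization.Away f ⊗[B] (B ⊗[A] Q)))) :=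
    e3.symm.toEquiv.subsingleton
  let c : (Localization.Away f ⊗[B] (B ⊗[A] Q)) ≃ₗ[Localization.Away f] Localization.Away f ⊗[A] Q :=
    TensorProduct.AlgebraTensorModule.cancelBaseChange A B (Localization.Away f)
      (Localization.Away f) Q
  haveI h2 : Subsingleton (T p (ModuleCat.of (Localization.Away f) (Localization.Away f ⊗[B] X))
      (ModuleCat.of (Localization.Away f) (Localization.Away f ⊗[A] Q))) :=
    (torCongrRight _ c.toModuleIso p).symm.toLinearEquiv.toEquiv.subsingleton
  obtain ⟨φ1, hφ1⟩ := TorBC2.full A (Localization.Away f) Q p (Localization.Away f ⊗[B] X)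
  haveI : Subsingleton (T p (ModuleCat.of A (Localization.Away f ⊗[B] X)) (ModuleCat.of A Q)) :=
    hφ1.injective.subsingleton
  exact ModuleCat.isZero_of_subsingleton _

/-- the chart step -/
theorem fdLE_of_stdSmooth (A B' : Type u) [CommRing A] [CommRing B'] [Algebra A B'] (n : ℕ)
    [Algebra.IsStandardSmoothOfRelativeDimension n A B']
    (X' : Type u) [AddCommGroup X'] [Module B' X'] [Module A X'] [IsScalarTower A B' X'] (m : ℕ)
    (hX : fdLE m (ModuleCat.of A X')) : fdLE (m + n) (ModuleCat.of B' X') := by
  have hstd : (algebraMap A B').IsStandardSmoothOfRelativeDimension n :=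
    (RingHom.isStandardSmoothOfRelativeDimension_algebraMap n).2 inferInstance
  obtain ⟨g₀, hg₀, hét⟩ := hstd.exists_etale_mvPolynomial
  have h1 : DRing.HasTorAmplitudeIn A (-(m : ℤ)) 0 (Dual.inD A X') :=
    ((s6946 (R := A) X' m).1).1 (hasTorDimLE_of_fdLE X' m hX)
  let M' : ModuleCat.{u} (MvPolynomial (Fin n) A) :=
    (ModuleCat.restrictScalars.{u} g₀).obj (ModuleCat.of B' X')
  let N0 : ModuleCat.{u} A :=
    (ModuleCat.restrictScalars.{u} (MvPolynomial.C : A →+* MvPolynomial (Fin n) A)).obj M'
  let e : X' ≃ₗ[A] N0 :=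
    { toFun := fun c => c
      invFun := fun c => c
      map_add' := fun _ _ => rfl
      map_smul' := fun a c => by
        show a • c = (g₀ (MvPolynomial.C a)) • c
        have : g₀ (MvPolynomial.C a) = algebraMap A B' a := by
          rw [← hg₀]; rfl
        rw [this, algebraMap_smul]
      left_inv := fun _ => rfl
      right_inv := fun _ => rfl }
  have h2 : DRing.HasTorAmplitudeIn A (-(m : ℤ)) 0 ((singleFunctor (ModuleCat.{u} A) 0).obj N0) :=
    hasTorAmplitudeIn_of_iso ((singleFunctor (ModuleCat.{u} A) 0).mapIso e.toModuleIso) h1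
  have h3 := torAmp_mv n A m M' h2
  have h4 := torAmp_of_etale g₀ hét (m + n) (ModuleCat.of B' X') h3
  have h5 : DRing.HasTorDimLE B' (m + n) X' := ((s6946 (R := B') X' (m + n)).1).2 h4
  exact fdLE_of_hasTorDimLE X' (m + n) h5

/-- the relative dimension of a standard smooth chart -/
theorem isStandardSmoothOfRelDim_away (A B : Type u) [CommRing A] [CommRing B] [Algebra A B]
    [Algebra.Smooth A B] (n : ℕ)
    (hn : ∀ p : PrimeSpectrum B, Module.rankAtStalk (Ω[B⁄A]) p = n) (f : B)
    [Algebra.IsStandardSmooth A (Localization.Away f)] [Nontrivial (Localization.Away f)] :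
    Algebra.IsStandardSmoothOfRelativeDimension n A (Localization.Away f) := by
  rw [Algebra.IsStandardSmoothOfRelativeDimension.iff_of_isStandardSmooth]
  obtain ⟨p'⟩ : Nonempty (PrimeSpectrum (Localization.Away f)) := inferInstance
  have hbc : IsBaseChange (Localization.Away f) (KaehlerDifferential.map A A B (Localization.Away f)) :=
    KaehlerDifferential.isBaseChange_of_formallyEtale A B (Localization.Away f)
  have h1 : Module.rankAtStalk (Ω[Localization.Away f⁄A]) p' = n := by
    rw [Module.rankAtStalk_isBaseChange hbc p', hn]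
  have h2 : Module.rankAtStalk (R := Localization.Away f) (Ω[Localization.Away f⁄A]) =
      Module.finrank (Localization.Away f) (Ω[Localization.Away f⁄A]) :=
    Module.rankAtStalk_eq_finrank_of_free
  have h3 : Module.finrank (Localization.Away f) (Ω[Localization.Away f⁄A]) = n := by
    have := congrFun h2 p'
    rw [h1] at this
    simpa using this.symm
  rw [← Module.finrank_eq_rank, h3]

/-- **flat dimension over a smooth algebra** -/
theorem fdLE_of_smooth (A B : Type u) [CommRing A] [CommRing B] [Algebra A B] [Algebra.Smooth A B]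
    (n : ℕ) (hn : ∀ p : PrimeSpectrum B, Module.rankAtStalk (Ω[B⁄A]) p = n)
    (X : Type u) [AddCommGroup X] [Module B X] [Module A X] [IsScalarTower A B X] (m : ℕ)
    (hX : fdLE m (ModuleCat.of A X)) : fdLE (m + n) (ModuleCat.of B X) := by
  obtain ⟨s, hs, hstd⟩ := Algebra.Smooth.exists_span_eq_top_isStandardSmooth A B
  apply fdLE_of_away X (m + n) s hs
  intro f hf
  haveI := hstd f hf
  rcases subsingleton_or_nontrivial (Localization.Away f) with h | h
  · intro Y p hp
    haveI : Subsingleton (T p (ModuleCat.of (Localization.Away f) (Localization.Away f ⊗[B] X)) Y) :=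
      Module.subsingleton (Localization.Away f) _
    exact ModuleCat.isZero_of_subsingleton _
  · haveI := isStandardSmoothOfRelDim_away A B n hn f
    exact fdLE_of_stdSmooth A (Localization.Away f) n (Localization.Away f ⊗[B] X) m
      (fdLE_away_base A B X m hX f)

end Groth.Agent.Lib.Helper5.HypSurf
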