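import Groth.Agent.Lib.Helper5.HypSurf.Base

/-!
# Two-periodicity of Tor over a hypersurface: the induction (helper5)
-/

set_option autoImplicit false
set_option linter.unusedSectionVars false
set_option linter.unusedVariables false
set_option linter.style.haveILetI false
universe u
open CategoryTheory MonoidalCategory Limits TensorProduct

namespace Groth.Agent.Lib.Helper5.HypSurf
open Groth.Agent.Helper1.TorL Groth.Agent.Lib.Helper5.TorPro

section Main
variable (B R : Type u) [CommRing B] [CommRing R] [Algebra B R]
variable {g : B} (hg : IsSMulRegular B g) (hsurj : Function.Surjective (algebraMap B R))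
  (hker : RingHom.ker (algebraMap B R) = Ideal.span {g})

include hg hker in
/-- a `B`-flat module killed by the nonzerodivisor `g` vanishes -/
theorem subsingleton_of_flat (X : Type u) [AddCommGroup X] [Module R X] [Module B X]
    [IsScalarTower B R X] [Module.Flat B X] : Subsingleton X := by
  have hreg : IsSMulRegular (B ⊗[B] X) g := IsSMulRegular.rTensor X hg
  have key : ∀ x : X, x = 0 := by
    intro x
    have h1 : g • ((1 : B) ⊗ₜ[B] x) = g • (0 : B ⊗[B] X) := by
      rw [smul_zero, ← TensorProduct.tmul_smul, smul_eq_zero_of_ker B R hker X x,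
        TensorProduct.tmul_zero]
    have h2 := hreg h1
    have h3 := congrArg (TensorProduct.lid B X) h2
    simpa using h3
  exact ⟨fun x y => (key x).trans (key y).symm⟩

include hg hsurj hker in
/-- the cover `R ⊗[B] B^(X)` has flat dimension `≤ 1` over `B` -/
theorem fdLE_gbar (X : Type u) [AddCommGroup X] [Module R X] [Module B X]
    [IsScalarTower B R X] : fdLE 1 (ModuleCat.of B (R ⊗[B] (X →₀ B))) := by
  let SG : ShortComplex (ModuleCat.{u} B) := ModuleCat.shortComplexOfCompEqZero
    (g • (LinearMap.id : (X →₀ B) →ₗ[B] (X →₀ B))) (TensorProduct.mk B R (X →₀ B) 1)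
    (LinearMap.ext fun x => (one_tmul_eq_zero_iff hsurj hker _).2 ⟨x, rfl⟩)
  have hSG : SG.ShortExact := by
    refine ModuleCat.shortComplex_shortExact _ ?_ ?_ ?_
    · intro y
      constructor
      · intro hy
        obtain ⟨x, hx⟩ := (one_tmul_eq_zero_iff hsurj hker y).1 hy
        exact ⟨x, hx.symm⟩
      · rintro ⟨x, rfl⟩
        exact (one_tmul_eq_zero_iff hsurj hker _).2 ⟨x, rfl⟩
    · intro x y h
      exact finsupp_smul_cancel B hg X h
    · intro t
      obtain ⟨x, rfl⟩ := exists_one_tmul hsurj t
      exact ⟨x, rfl⟩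
  haveI : Module.Flat B (ModuleCat.of B (X →₀ B)) := inferInstanceAs (Module.Flat B (X →₀ B))
  exact fdLE_X₃ hSG (fdLE_of_flat _ 0) (fdLE_of_flat _ 1)

include hg hsurj hker in
/-- **two-periodicity of Tor over a hypersurface** -/
theorem main (N : ModuleCat.{u} R) : ∀ (d : ℕ) (X : Type u) [AddCommGroup X] [Module R X]
    [Module B X] [IsScalarTower B R X], fdLE d (ModuleCat.of B X) → ∀ q : ℕ, d + 2 ≤ q →
    Nonempty (T q (ModuleCat.of R X) N ≅ T (q - 2) (ModuleCat.of R X) N) := by
  intro d
  induction d with
  | zero =>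
    intro X _ _ _ _ hfd q hq
    haveI : Module.Flat B X := flat_of_fdLE_zero hfd
    haveI := subsingleton_of_flat B R hg hker X
    have hz : ∀ n, IsZero (T n (ModuleCat.of R X) N) := by
      intro n
      cases n with
      | zero =>
        refine IsZero.of_iso ?_ (tor0Iso (ModuleCat.of R X) N)
        haveI : Subsingleton (X ⊗[R] N) := inferInstance
        exact ModuleCat.isZero_of_subsingleton (ModuleCat.of R (X ⊗[R] N))
      | succ n =>
        haveI : Module.Flat R (ModuleCat.of R X) := inferInstanceAs (Module.Flat R X)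
        exact isZero_tor_succ_of_flat _ _ n
    exact ⟨(hz q).iso (hz (q - 2))⟩
  | succ d ih =>
    rcases d with _ | d'
    · intro X _ _ _ _ hfd q hq
      obtain ⟨k, rfl⟩ : ∃ k, q = k + 1 + 1 + 1 := ⟨q - 3, by omega⟩
      haveI : Module.Flat B (LinearMap.ker (Finsupp.linearCombination B (id : X → X))) :=
        flat_of_fdLE_zero (fdLE_Om hfd)
      have h := base B R hg hsurj hker X N k
      have e : k + 1 + 1 + 1 - 2 = k + 1 := by omega
      rw [e]
      exact h
    · intro X _ _ _ _ hfd q hq
      obtain ⟨k, rfl⟩ : ∃ k, q = k + 1 + 1 + 1 + 1 := ⟨q - 4, by omega⟩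
      -- the `B`-linear form of the first sequence
      let SB : ShortComplex (ModuleCat.{u} B) := ModuleCat.shortComplexOfCompEqZero
        (M := ↥(LinearMap.ker (piBar B R X))) (N := R ⊗[B] (X →₀ B)) (L := X)
        (((LinearMap.ker (piBar B R X)).subtype).restrictScalars B)
        ((piBar B R X).restrictScalars B)
        (by
          apply LinearMap.ext
          intro z
          exact z.2)
      have hSB : SB.ShortExact := by
        refine ModuleCat.shortComplex_shortExact _ ?_ ?_ ?_
        · exact LinearMap.exact_subtype_ker_map (piBar B R X)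
        · exact (LinearMap.ker (piBar B R X)).injective_subtype
        · exact piBar_surjective B R X
      have hG := fdLE_gbar B R hg hsurj hker X
      have hZ : fdLE (d' + 1) (ModuleCat.of B ↥(LinearMap.ker (piBar B R X))) := by
        intro Y m hm
        exact isZero_tor_X₁ SB hSB Y m (hfd Y (m + 1) (by omega)) (hG Y m (by omega))
      obtain ⟨e0⟩ := ih ↥(LinearMap.ker (piBar B R X)) hZ (k + 1 + 1 + 1) (by omega)
      have hSa := Sa_shortExact B R X
      haveI : Module.Flat R (Sa B R X).X₂ := inferInstanceAs (Module.Flat R (R ⊗[B] (X →₀ B)))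
      have e1 := torShiftIso (Sa B R X) hSa N (k + 1 + 1 + 1) (isZero_tor_succ_of_flat _ _ _)
        (isZero_tor_succ_of_flat _ _ _)
      have e2 := torShiftIso (Sa B R X) hSa N (k + 1) (isZero_tor_succ_of_flat _ _ _)
        (isZero_tor_succ_of_flat _ _ _)
      have a1 : k + 1 + 1 + 1 + 1 - 2 = k + 1 + 1 := by omega
      have a2 : k + 1 + 1 + 1 - 2 = k + 1 := by omega
      rw [a1]
      rw [a2] at e0
      exact ⟨e1 ≪≫ e0 ≪≫ e2.symm⟩

end Main

end Groth.Agent.Lib.Helper5.HypSurf
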